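import Cfsg.Agent.H354.KGL.T1
import Cfsg.Agent.H354.KGL.F1
import Cfsg.Agent.H644.KGV.Goals

/-!
# `MainKGV` implies the linear theorem and S4968 (helper354)
-/

set_option autoImplicit false

namespace Cfsg.Agent.H354.KGL.Main

open Cfsg.Agent.H475.KGL Cfsg.Agent.H644.KGV Cfsg.Agent.H354.KGL.T1

universe u

/-- the linear theorem from the `k(GV)` theorem -/
theorem bd_of_main (h : MainKGV.{u}) (p : ℕ) [Fact p.Prime] (V : Type u) [AddCommGroup V]
    [Module (ZMod p) V] [Finite V] [Nontrivial V] : Bd p V := by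
  intro G hG
  refine bd_of_le G hG ?_
  have : Finite (V ≃ₗ[ZMod p] V) :=
    Finite.of_injective (fun e : V ≃ₗ[ZMod p] V => (e : V → V)) DFunLike.coe_injective
  have : Finite G := inferInstance
  have : Finite (SD G) := Finite.of_injective (fun x : SD G => (x.left, x.right)) (by
    intro x y hxy
    rw [Prod.mk.injEq] at hxy
    exact SemidirectProduct.ext hxy.1 hxy.2)
  have key := (h p (SD G) (VV G) (VV_exp G) (by rw [index_VV]; exact hG) (VV_self G)).1
  rwa [card_VV] at key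

/-- S4968 from the `k(GV)` theorem -/
theorem s4968_of_main (h : MainKGV.{u}) {X : Type u} [Group X] [Finite X] (p : ℕ) [Fact p.Prime]
    (V : Subgroup X) [V.Normal] (hVexp : ∀ v ∈ V, v ^ p = 1) (hidx : ¬ p ∣ V.index)
    (hself : Subgroup.centralizer (V : Set X) = V) (hV : V ≠ ⊥) (G : Subgroup X)
    (hGV : Subgroup.IsComplement' V G) :
    Nat.card (ConjClasses G) ≤ Nat.card V - 1 ∧ (Nat.card (ConjClasses G) = Nat.card V - 1 ↔
      (IsCyclic G ∧ ∀ v ∈ V, ∀ w ∈ V, v ≠ 1 → w ≠ 1 → ∃ g ∈ G, g * v * g⁻¹ = w)) :=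
  F1.s4968_of (fun p _ V _ _ _ _ => bd_of_main h p V) p V hVexp hidx hself hV G hGV

/-- S4954 from the `k(GV)` theorem -/
theorem s4954_of_main (h : MainKGV.{u}) {X : Type u} [Group X] [Finite X] (p : ℕ) [Fact p.Prime]
    (V : Subgroup X) [V.Normal] (hVexp : ∀ v ∈ V, v ^ p = 1) (hidx : ¬ p ∣ V.index)
    (hself : Subgroup.centralizer (V : Set X) = V) :
    Nat.card (ConjClasses X) ≤ Nat.card V :=
  (h p X V hVexp hidx hself).1

end Cfsg.Agent.H354.KGL.Main
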